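import Groth.Agent.Lib.Helper2.PerfBlow.Alg
import Groth.Agent.Lib.Helper2.ExcSm.Sch
import Groth.Agent.S7171
import Groth.Agent.S7070

/-!
# The blow-up along a regular closed immersion is a perfect morphism (helper2)
-/

set_option autoImplicit false
set_option linter.style.haveILetI false
set_option linter.unusedSectionVars false
universe u

open CategoryTheory CategoryTheory.Limits AlgebraicGeometry Opposite TopologicalSpace

namespace Groth.Agent.Lib.Helper2.PerfBlow

theorem isLCI_of_ringEquiv {A B B' : Type u} [CommRing A] [CommRing B] [CommRing B']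
    [Algebra A B] [Algebra A B'] (e : B ≃+* B')
    (he : ∀ a, e (algebraMap A B a) = algebraMap A B' a) (h : LCI.IsLCI A B) :
    LCI.IsLCI A B' := by
  obtain ⟨hft, n, φ, hφ, hK⟩ := h
  let eA : B ≃ₐ[A] B' := { e with commutes' := he }
  refine ⟨Algebra.FiniteType.equiv hft eA, n, eA.toAlgHom.comp φ, ?_, ?_⟩
  · exact eA.surjective.comp hφ
  · have : RingHom.ker (eA.toAlgHom.comp φ).toRingHom = RingHom.ker φ.toRingHom := by
      ext p
      rw [RingHom.mem_ker, RingHom.mem_ker]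
      change eA (φ p) = 0 ↔ φ p = 0
      exact map_eq_zero_iff _ eA.injective
    rw [this]
    exact hK

theorem ideal_eq_top_of_disjoint {X : Scheme.{u}} (I : X.IdealSheafData) (U : X.affineOpens)
    (h : Disjoint (I.support : Set X) (U.1 : Set X)) : I.ideal U = ⊤ := by
  rw [← PrimeSpectrum.zeroLocus_empty_iff_eq_top]
  have h1 : U.2.fromSpec '' PrimeSpectrum.zeroLocus (I.ideal U : Set Γ(X, U.1)) = ∅ := by
    rw [U.2.fromSpec_image_zeroLocus, ← I.coe_support_inter U]
    exact Set.disjoint_iff_inter_eq_empty.1 h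
  exact Set.image_eq_empty.1 h1

/-- generators of the centre on a suitable affine neighbourhood of any point. -/
theorem exists_weaklyRegular_gens {Y X : Scheme.{u}} (i : Y ⟶ X)
    (hi : Mor2.IsRegularClosedImmersion i) (x : X) :
    ∃ (U : X.Opens) (hU : IsAffineOpen U), x ∈ U ∧ ∃ (r : ℕ) (g : Fin r → Γ(X, U)),
      RingTheory.Sequence.IsWeaklyRegular Γ(X, U) (List.ofFn g) ∧
      i.ker.ideal ⟨U, hU⟩ = Ideal.span (Set.range g) := by
  haveI := hi.1
  by_cases hx : x ∈ Set.range i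
  · obtain ⟨z, rfl⟩ := hx
    obtain ⟨U, hU, hzU, rs, hreg, hker⟩ := hi.2 z
    refine ⟨U, hU, hzU, rs.length, rs.get, ?_, ?_⟩
    · rw [List.ofFn_get]
      exact hreg.toIsWeaklyRegular
    · rw [hker, ← Groth.Agent.Lib.Helper9.QuasiReg.ofList_ofFn, List.ofFn_get]
  · have hsupp : (i.ker.support : Set X) = Set.range i := by
      rw [Scheme.Hom.support_ker]
      exact i.isClosedEmbedding.isClosed_range.closure_eq
    have hx' : x ∈ i.ker.support.compl := by
      show x ∉ (i.ker.support : Set X)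
      rw [hsupp]; exact hx
    obtain ⟨U, hU, hxU, hle⟩ := Opens.isBasis_iff_nbhd.mp X.isBasis_affineOpens hx'
    have hU' : IsAffineOpen U := hU
    refine ⟨U, hU', hxU, 1, fun _ => 1, ?_, ?_⟩
    · rw [List.ofFn_succ, List.ofFn_zero, RingTheory.Sequence.isWeaklyRegular_singleton_iff]
      exact IsSMulRegular.one _
    · rw [ideal_eq_top_of_disjoint i.ker ⟨U, hU'⟩]
      · symm
        rw [Ideal.eq_top_iff_one]
        exact Ideal.subset_span ⟨0, rfl⟩
      · rw [Set.disjoint_iff]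
        rintro y ⟨hy1, hy2⟩
        exact hle hy2 hy1

theorem main {Y X X' : Scheme.{u}} (i : Y ⟶ X) (hi : Mor2.IsRegularClosedImmersion i)
    (f : X' ⟶ X) (hf : BlowUp.IsBlowUp f i.ker) : MoreMor.IsPerfectMor f := by
  rw [Groth.Agent.S7171.result]
  intro x'
  obtain ⟨U, hU, hxU, r, g, hreg, hI⟩ := exists_weaklyRegular_gens i hi (f x')
  obtain ⟨j₀, ζ, hζi, hxζ, hζ⟩ :=
    Groth.Agent.Lib.Helper2.ExcSm.exists_chart_gens i.ker f hf U hU g hI x' hxU
  haveI := hζi
  obtain ⟨hle, θ, hθ⟩ := Groth.Agent.Lib.Helper17.BlowUpExcFlatSch.chart_appLE f U hU _ ζ hζ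
  refine ⟨ζ.opensRange, U, hle, isAffineOpen_opensRange ζ, hU, hxζ, ?_⟩
  letI := (f.appLE U ζ.opensRange hle).hom.toAlgebra
  apply Groth.Agent.S7070.result
  have h1 : LCI.IsLCI Γ(X, U)
      ↥(BlowUp.affineAlgebra Γ(X, U) (Ideal.span (Set.range g)) (g j₀)) :=
    isLCI_affineAlgebra g j₀ hreg
  have h2 : LCI.IsLCI Γ(X, U)
      ↥(BlowUp.affineAlgebra Γ(X, U) (i.ker.ideal ⟨U, hU⟩) (g j₀)) := by
    rw [hI]; exact h1
  refine isLCI_of_ringEquiv θ.symm.commRingCatIsoToRingEquiv ?_ h2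
  intro a
  have h3 : θ.hom.hom ((f.appLE U ζ.opensRange hle).hom a) =
      algebraMap Γ(X, U) (BlowUp.affineAlgebra Γ(X, U) (i.ker.ideal ⟨U, hU⟩) (g j₀)) a :=
    congr($hθ a)
  change θ.inv.hom _ = (f.appLE U ζ.opensRange hle).hom a
  rw [← h3, ← CommRingCat.comp_apply, Iso.hom_inv_id]
  rfl

end Groth.Agent.Lib.Helper2.PerfBlow
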