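import Groth.Agent.Lib.Helper2.PerfBlow.Kos
import Groth.Agent.Lib.Helper1.SecReg
import Groth.Agent.Lib.Helper1.RegComp
import Groth.Agent.Lib.Helper1.KRegIdeal10
import Groth.Agent.Lib.Helper4.PolyKos1

/-!
# The affine blow-up algebra of a regular sequence is a local complete intersection (helper2)

For a weakly regular sequence `f_1, …, f_r` in `A`, `I = (f)` and `a = f_{i₀}`, the kernel of
`A[T_1, …, T_r] → A[I/a]`, `T_j ↦ f_j/a`, is generated by the Koszul-regular sequence
`T_{i₀} - 1`, `a T_j - f_j` (`j ≠ i₀`).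
-/

set_option autoImplicit false
set_option linter.style.haveILetI false
set_option linter.unusedSectionVars false
universe u

open MvPolynomial

namespace Groth.Agent.Lib.Helper2.PerfBlow

open Groth.Agent.Lib.Helper1.KoszulSwap Groth.Agent.Lib.Helper1.KoszulConcat
  Groth.Agent.Lib.Helper4.PolyKos

section Alg
variable {A : Type u} [CommRing A] {r : ℕ} (f : Fin r → A) (i₀ : Fin r)

/-- the relations. -/
noncomputable def GG (j : Fin r) : MvPolynomial (Fin r) A :=
  if j = i₀ then X i₀ - 1 else C (f i₀) * X j - C (f j)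

/-- the list of relations. -/
noncomputable def LL : List (MvPolynomial (Fin r) A) := List.ofFn (GG f i₀)

lemma mem_LL (j : Fin r) : GG f i₀ j ∈ LL f i₀ := by
  rw [LL, List.mem_ofFn]
  exact ⟨j, rfl⟩

lemma GG_self : GG f i₀ i₀ = X i₀ - 1 := by rw [GG, if_pos rfl]

lemma GG_ne {j : Fin r} (hj : j ≠ i₀) : GG f i₀ j = C (f i₀) * X j - C (f j) := by
  rw [GG, if_neg hj]

/-- `X i - C c` is a non-zero-divisor. -/
lemma X_sub_C_mul_cancel {S : Type u} [CommRing S] (c : S) (i : Fin r)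
    (p : MvPolynomial (Fin r) S) (hp : (X i - C c) * p = 0) : p = 0 := by
  classical
  let a : Fin r → S := fun j => if j = i then c else 0
  have h1 : shiftEquiv r a (X i) = X i - C c := by
    rw [shiftEquiv_X]
    simp [a]
  have h2 : shiftEquiv r a (X i * (shiftEquiv r a).symm p) = 0 := by
    rw [map_mul, h1, AlgEquiv.apply_symm_apply, hp]
  have h3 : X i * (shiftEquiv r a).symm p = 0 := by
    have := congrArg (shiftEquiv r a).symm h2
    rwa [AlgEquiv.symm_apply_apply, map_zero] at this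
  have h4 : (shiftEquiv r a).symm p = 0 :=
    (isRegular_X (R := S) (n := i)).left (by
      change X i * (shiftEquiv r a).symm p = X i * 0
      rw [h3, mul_zero])
  have := congrArg (shiftEquiv r a) h4
  rwa [AlgEquiv.apply_symm_apply, map_zero] at this

/-- the reference Koszul-regular sequence `T_{i₀} - 1, f_1, …, f_r`. -/
theorem kr_ref (hf : RingTheory.Sequence.IsWeaklyRegular A (List.ofFn f)) :
    LCI.IsKoszulRegularSeq (MvPolynomial (Fin r) A)
      ([X i₀ - 1] ++ (List.ofFn f).map (C : A →+* MvPolynomial (Fin r) A)) := by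
  have h0 : LCI.IsKoszulRegularSeq A (List.ofFn f) :=
    Groth.Agent.Lib.Helper1.SecReg.isKoszulRegularSeq_of_isWeaklyRegular _ hf
  have hl : LCI.IsKoszulRegularSeq (MvPolynomial (Fin r) A)
      ((List.ofFn f).map (C : A →+* MvPolynomial (Fin r) A)) := by
    have := isKoszulRegularSeq_map_of_flat (B := MvPolynomial (Fin r) A) (List.ofFn f) h0
    rwa [MvPolynomial.algebraMap_eq] at this
  refine isKoszulRegularSeq_append _ _ hl ?_
  apply Groth.Agent.Lib.Helper1.SecReg.isKoszulRegularSeq_of_isWeaklyRegular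
  rw [List.map_singleton, RingTheory.Sequence.isWeaklyRegular_singleton_iff]
  -- `X i₀ - 1` is a non-zero-divisor modulo `I[T]`
  set J := Ideal.ofList ((List.ofFn f).map (C : A →+* MvPolynomial (Fin r) A)) with hJ
  have hJ' : J = (Ideal.ofList (List.ofFn f)).map (C : A →+* MvPolynomial (Fin r) A) :=
    Groth.Agent.Lib.Helper1.RegComp.ofList_map _ _
  intro x y hxy
  obtain ⟨p, rfl⟩ := Ideal.Quotient.mk_surjective x
  obtain ⟨q, rfl⟩ := Ideal.Quotient.mk_surjective y
  replace hxy : (Ideal.Quotient.mk J) (X i₀ - 1) * (Ideal.Quotient.mk J) p =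
      (Ideal.Quotient.mk J) (X i₀ - 1) * (Ideal.Quotient.mk J) q := hxy
  rw [← map_mul, ← map_mul, Ideal.Quotient.eq, ← mul_sub] at hxy
  rw [Ideal.Quotient.eq]
  set π := MvPolynomial.map (σ := Fin r) (Ideal.Quotient.mk (Ideal.ofList (List.ofFn f))) with hπ
  have hker : RingHom.ker π = J := by
    rw [hπ, MvPolynomial.ker_map, Ideal.mk_ker, hJ']
  rw [← hker, RingHom.mem_ker] at hxy ⊢
  rw [map_mul, map_sub, map_one, hπ, MvPolynomial.map_X, ← hπ] at hxy
  have h1 : (X i₀ - C (1 : A ⧸ Ideal.ofList (List.ofFn f))) * π (p - q) = 0 := by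
    rw [C_1]; exact hxy
  exact X_sub_C_mul_cancel 1 i₀ _ h1

lemma mem_ref_C (j : Fin r) : C (f j) ∈
    Ideal.ofList ([X i₀ - 1] ++ (List.ofFn f).map (C : A →+* MvPolynomial (Fin r) A)) := by
  apply mem_ofList_of_mem
  apply List.mem_append_right
  rw [List.mem_map]
  exact ⟨f j, (List.mem_ofFn' f (f j)).2 ⟨j, rfl⟩, rfl⟩

theorem ofList_cons_LL : Ideal.ofList (C (f i₀) :: LL f i₀) =
    Ideal.ofList ([X i₀ - 1] ++ (List.ofFn f).map (C : A →+* MvPolynomial (Fin r) A)) := by
  apply le_antisymm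
  · refine Ideal.span_le.2 ?_
    intro x hx
    have hx' : x ∈ C (f i₀) :: LL f i₀ := hx
    rcases List.mem_cons.1 hx' with rfl | hx''
    · exact mem_ref_C f i₀ i₀
    · rw [LL, List.mem_ofFn] at hx''
      obtain ⟨j, rfl⟩ := hx''
      by_cases hj : j = i₀
      · subst hj
        rw [GG_self]
        exact mem_ofList_of_mem (List.mem_append_left _ (List.mem_singleton.2 rfl))
      · rw [GG_ne f i₀ hj]
        exact Ideal.sub_mem _ (Ideal.mul_mem_right _ _ (mem_ref_C f i₀ i₀)) (mem_ref_C f i₀ j)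
  · refine Ideal.span_le.2 ?_
    intro x hx
    have hx' : x ∈ [X i₀ - 1] ++ (List.ofFn f).map (C : A →+* MvPolynomial (Fin r) A) := hx
    rcases List.mem_append.1 hx' with h1 | h2
    · rw [List.mem_singleton] at h1
      subst h1
      rw [← GG_self f i₀]
      exact mem_ofList_of_mem (List.mem_cons_of_mem _ (mem_LL f i₀ i₀))
    · rw [List.mem_map] at h2
      obtain ⟨y, hy, rfl⟩ := h2
      obtain ⟨j, rfl⟩ := (List.mem_ofFn' f y).1 hy
      by_cases hj : j = i₀
      · subst hj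
        exact mem_ofList_of_mem List.mem_cons_self
      · have h3 : (C (f j) : MvPolynomial (Fin r) A) = C (f i₀) * X j - GG f i₀ j := by
          rw [GG_ne f i₀ hj]; ring
        change C (f j) ∈ _
        rw [h3]
        exact Ideal.sub_mem _ (Ideal.mul_mem_right _ _ (mem_ofList_of_mem List.mem_cons_self))
          (mem_ofList_of_mem (List.mem_cons_of_mem _ (mem_LL f i₀ j)))

theorem kr_cons (hf : RingTheory.Sequence.IsWeaklyRegular A (List.ofFn f)) :
    LCI.IsKoszulRegularSeq (MvPolynomial (Fin r) A) (C (f i₀) :: LL f i₀) :=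
  isKoszulRegularSeq_of_ofList_eq _ _ (by simp [LL]) (ofList_cons_LL f i₀) (kr_ref f i₀ hf)

end Alg

section Loc
variable {A : Type u} [CommRing A] {r : ℕ} (f : Fin r → A) (i₀ : Fin r)

attribute [local instance] MvPolynomial.algebraMvPolynomial

local notation "Aa" => Localization.Away (f i₀)
local notation "PP" => MvPolynomial (Fin r) A
local notation "BB" => MvPolynomial (Fin r) (Localization.Away (f i₀))
set_option quotPrecheck false in
local notation "aM" => (⟨f i₀, Submonoid.mem_powers _⟩ : Submonoid.powers (f i₀))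

/-- the point `c_j = f_j / a`. -/
noncomputable def cc (j : Fin r) : Localization.Away (f i₀) := IsLocalization.mk' Aa (f j) aM

lemma cc_self : cc f i₀ i₀ = 1 := IsLocalization.mk'_self' Aa (x := aM)

lemma a_mul_cc (j : Fin r) : algebraMap A Aa (f i₀) * cc f i₀ j = algebraMap A Aa (f j) :=
  IsLocalization.mk'_spec' Aa (f j) aM

lemma map_GG_self : algebraMap PP BB (GG f i₀ i₀) = X i₀ - C (cc f i₀ i₀) := by
  rw [GG_self, MvPolynomial.algebraMap_def, map_sub, map_one, MvPolynomial.map_X, cc_self, C_1]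

lemma map_GG_ne {j : Fin r} (hj : j ≠ i₀) :
    algebraMap PP BB (GG f i₀ j) = C (algebraMap A Aa (f i₀)) * (X j - C (cc f i₀ j)) := by
  rw [GG_ne f i₀ hj, MvPolynomial.algebraMap_def, map_sub, map_mul, MvPolynomial.map_X,
    MvPolynomial.map_C, MvPolynomial.map_C, mul_sub, ← C_mul, a_mul_cc]

theorem ofList_map_LL :
    Ideal.ofList ((LL f i₀).map (algebraMap PP BB)) = Ideal.ofList (gl r (cc f i₀)) := by
  apply le_antisymm
  · refine Ideal.span_le.2 ?_
    intro x hx
    have hx' : x ∈ (LL f i₀).map (algebraMap PP BB) := hx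
    rw [List.mem_map] at hx'
    obtain ⟨y, hy, rfl⟩ := hx'
    rw [LL, List.mem_ofFn] at hy
    obtain ⟨j, rfl⟩ := hy
    by_cases hj : j = i₀
    · rw [hj]
      change algebraMap PP BB (GG f i₀ i₀) ∈ _
      rw [map_GG_self]
      exact mem_ofList_of_mem (mem_gl r (cc f i₀) i₀)
    · change algebraMap PP BB (GG f i₀ j) ∈ _
      rw [map_GG_ne f i₀ hj]
      exact Ideal.mul_mem_left _ _ (mem_ofList_of_mem (mem_gl r (cc f i₀) j))
  · refine Ideal.span_le.2 ?_
    intro x hx
    have hx' : x ∈ gl r (cc f i₀) := hx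
    rw [gl, List.mem_map] at hx'
    obtain ⟨j, -, rfl⟩ := hx'
    have hmem : algebraMap PP BB (GG f i₀ j) ∈
        Ideal.ofList ((LL f i₀).map (algebraMap PP BB)) :=
      mem_ofList_of_mem (List.mem_map.2 ⟨_, mem_LL f i₀ j, rfl⟩)
    by_cases hj : j = i₀
    · rw [hj] at hmem ⊢
      rw [map_GG_self] at hmem
      exact hmem
    · rw [map_GG_ne f i₀ hj] at hmem
      have hu : C (IsLocalization.mk' Aa (1 : A) aM) * C (algebraMap A Aa (f i₀)) =
          (1 : BB) := by
        rw [← C_mul, mul_comm, IsLocalization.mk'_spec' Aa (1 : A) aM, map_one, C_1]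
      have := Ideal.mul_mem_left _ (C (IsLocalization.mk' Aa (1 : A) aM)) hmem
      rw [← mul_assoc, hu, one_mul] at this
      exact this

theorem kr_loc : LCI.IsKoszulRegularSeq BB ((LL f i₀).map (algebraMap PP BB)) := by
  refine isKoszulRegularSeq_of_ofList_eq _ (gl r (cc f i₀)) ?_ (ofList_map_LL f i₀) ?_
  · rw [List.length_map, LL, List.length_ofFn, length_gl]
  · exact Groth.Agent.Lib.Helper1.SecReg.isKoszulRegularSeq_of_isWeaklyRegular _
      (gl_weaklyRegular r (cc f i₀))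

instance isLocalization_away_BB : IsLocalization.Away (C (f i₀) : PP) BB := by
  have h := MvPolynomial.isLocalization (σ := Fin r) (Submonoid.powers (f i₀)) Aa
  rwa [Submonoid.map_powers] at h

theorem kr_LL (hf : RingTheory.Sequence.IsWeaklyRegular A (List.ofFn f)) :
    LCI.IsKoszulRegularSeq PP (LL f i₀) :=
  kr_of_cons_of_localization (C (f i₀)) (LL f i₀) BB (kr_cons f i₀ hf) (kr_loc f i₀)

local notation "RR" => BlowUp.affineAlgebra A (Ideal.span (Set.range f)) (f i₀)

lemma cc_mem (j : Fin r) : cc f i₀ j ∈ RR :=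
  Algebra.subset_adjoin ⟨f j, Ideal.subset_span ⟨j, rfl⟩, rfl⟩

/-- the presentation of the affine blow-up algebra. -/
noncomputable def φφ : PP →ₐ[A] RR :=
  aeval (fun j => (⟨cc f i₀ j, cc_mem f i₀ j⟩ : RR))

lemma φφ_val (p : PP) :
    ((φφ f i₀ p : RR) : Aa) = ev r (cc f i₀) (algebraMap PP BB p) := by
  have h : ((Subalgebra.val RR).toRingHom.comp (φφ f i₀).toRingHom : PP →+* Aa) =
      ((ev r (cc f i₀)).toRingHom.comp (algebraMap PP BB) : PP →+* Aa) := by
    apply MvPolynomial.ringHom_ext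
    · intro x
      change ((φφ f i₀ (C x) : RR) : Aa) = ev r (cc f i₀) (algebraMap PP BB (C x))
      rw [φφ, aeval_C, MvPolynomial.algebraMap_def, MvPolynomial.map_C, ev_C]
      rfl
    · intro j
      change ((φφ f i₀ (X j) : RR) : Aa) = ev r (cc f i₀) (algebraMap PP BB (X j))
      rw [φφ, aeval_X, MvPolynomial.algebraMap_def, MvPolynomial.map_X, ev_X]
  exact congr($h p)

lemma φφ_surjective : Function.Surjective (φφ f i₀) := by
  have key : ∀ x ∈ Ideal.span (Set.range f), ∃ p : PP, ((φφ f i₀ p : RR) : Aa) =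
      algebraMap A Aa x * IsLocalization.mk' Aa (1 : A) aM := by
    intro x hx
    refine Submodule.span_induction (p := fun x _ => ∃ p : PP, ((φφ f i₀ p : RR) : Aa) =
      algebraMap A Aa x * IsLocalization.mk' Aa (1 : A) aM) ?_ ?_ ?_ ?_ hx
    · rintro _ ⟨j, rfl⟩
      refine ⟨X j, ?_⟩
      rw [φφ, aeval_X, ← IsLocalization.mk'_eq_mul_mk'_one]
      rfl
    · exact ⟨0, by rw [map_zero, map_zero, zero_mul]; rfl⟩
    · rintro x y _ _ ⟨p, hp⟩ ⟨q, hq⟩
      refine ⟨p + q, ?_⟩
      rw [map_add, map_add, add_mul, ← hp, ← hq]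
      rfl
    · rintro c x _ ⟨p, hp⟩
      refine ⟨C c * p, ?_⟩
      rw [map_mul, smul_eq_mul, map_mul, mul_assoc, ← hp, φφ, aeval_C]
      rfl
  have main : ∀ z ∈ RR, ∃ p : PP, ((φφ f i₀ p : RR) : Aa) = z := by
    intro z hz
    refine Algebra.adjoin_induction (p := fun z _ => ∃ p : PP, ((φφ f i₀ p : RR) : Aa) = z)
      ?_ ?_ ?_ ?_ hz
    · rintro _ ⟨x, hx, rfl⟩
      obtain ⟨p, hp⟩ := key x hx
      exact ⟨p, by rw [hp, ← IsLocalization.mk'_eq_mul_mk'_one]⟩
    · intro x
      refine ⟨C x, ?_⟩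
      rw [φφ, aeval_C]
      rfl
    · rintro x y _ _ ⟨p, hp⟩ ⟨q, hq⟩
      exact ⟨p + q, by rw [map_add, ← hp, ← hq]; rfl⟩
    · rintro x y _ _ ⟨p, hp⟩ ⟨q, hq⟩
      exact ⟨p * q, by rw [map_mul, ← hp, ← hq]; rfl⟩
  intro z
  obtain ⟨p, hp⟩ := main z.1 z.2
  exact ⟨p, Subtype.ext hp⟩

theorem ker_φφ (hf : RingTheory.Sequence.IsWeaklyRegular A (List.ofFn f)) :
    RingHom.ker (φφ f i₀).toRingHom = Ideal.ofList (LL f i₀) := by
  apply le_antisymm
  · intro p hp
    have hp0 : φφ f i₀ p = 0 := hp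
    have h1 : ev r (cc f i₀) (algebraMap PP BB p) = 0 := by
      rw [← φφ_val, hp0]
      rfl
    have h2 : algebraMap PP BB p ∈ Ideal.ofList (gl r (cc f i₀)) := by
      have := sub_C_ev_mem r (cc f i₀) (algebraMap PP BB p)
      rwa [h1, C_0, sub_zero] at this
    rw [← ofList_map_LL, Groth.Agent.Lib.Helper1.RegComp.ofList_map] at h2
    rw [IsLocalization.mem_map_algebraMap_iff (Submonoid.powers (C (f i₀) : PP)) BB] at h2
    obtain ⟨⟨⟨q, hq⟩, ⟨_, k, rfl⟩⟩, h3⟩ := h2
    simp only at h3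
    rw [← map_mul, IsLocalization.eq_iff_exists (Submonoid.powers (C (f i₀) : PP)) BB] at h3
    obtain ⟨⟨_, k', rfl⟩, h4⟩ := h3
    simp only at h4
    refine mem_of_pow_mul_mem (C (f i₀)) (LL f i₀) (kr_cons f i₀ hf) (k' + k) p ?_
    have h5 : C (f i₀) ^ (k' + k) * p = C (f i₀) ^ k' * q := by
      rw [pow_add, mul_assoc, mul_comm (C (f i₀) ^ k) p, h4]
    rw [h5]
    exact Ideal.mul_mem_left _ _ hq
  · refine Ideal.span_le.2 ?_
    intro x hx
    have hx' : x ∈ LL f i₀ := hx
    rw [LL, List.mem_ofFn] at hx'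
    obtain ⟨j, rfl⟩ := hx'
    change φφ f i₀ (GG f i₀ j) = 0
    apply Subtype.ext
    rw [φφ_val]
    have hmem : algebraMap PP BB (GG f i₀ j) ∈ Ideal.ofList (gl r (cc f i₀)) := by
      rw [← ofList_map_LL]
      exact mem_ofList_of_mem (List.mem_map.2 ⟨_, mem_LL f i₀ j, rfl⟩)
    rw [ev_eq_zero_of_mem r (cc f i₀) _ hmem]
    rfl

/-- the affine blow-up algebra of a weakly regular sequence is a local complete intersection. -/
theorem isLCI_affineAlgebra (hf : RingTheory.Sequence.IsWeaklyRegular A (List.ofFn f)) :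
    LCI.IsLCI A RR := by
  refine ⟨Algebra.FiniteType.of_surjective (φφ f i₀) (φφ_surjective f i₀), r, φφ f i₀,
    φφ_surjective f i₀, ?_⟩
  rw [ker_φφ f i₀ hf]
  exact Groth.Agent.Lib.Helper1.KRegIdeal.isKoszulRegularIdeal_ofList _ (kr_LL f i₀ hf)

end Loc

end Groth.Agent.Lib.Helper2.PerfBlow
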