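import Groth.Agent.Lib.Helper1.KoszulSwap
import Groth.Agent.Lib.Helper1.KoszulConcat
import Groth.Agent.Lib.Helper14.ConeLES

/-!
# Dropping a leading element from a Koszul-regular sequence after localisation (helper2)

If `a :: L` is Koszul-regular in `A` and `L` is Koszul-regular in `A[1/a]`, then `L` is Koszul-regular
in `A` and `a` is a non-zero-divisor modulo `(L)`.
-/

set_option autoImplicit false
set_option linter.style.haveILetI false
set_option linter.unusedSectionVars false
universe u

open CategoryTheory CategoryTheory.Limits CochainComplex MonoidalCategory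

namespace Groth.Agent.Lib.Helper2.PerfBlow

attribute [local instance] HasDerivedCategory.standard

section Cone
variable {C : Type*} [Category C] [Abelian C] [HasDerivedCategory C]
  {K L : CochainComplex C ℤ} (φ : K ⟶ L)

/-- If `H^n(cone φ) = 0` then `H^{n+1}(K) ⟶ H^{n+1}(L)` is a monomorphism. -/
theorem mono_homologyMap_of_isZero_cone (n₀ n₁ : ℤ) (h : n₀ + 1 = n₁)
    (hC : IsZero ((mappingCone φ).homology n₀)) :
    Mono (HomologicalComplex.homologyMap φ n₁) := by
  have hT := HomotopyCategory.mappingCone_triangleh_distinguished φ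
  set F := HomotopyCategory.homologyFunctor C (ComplexShape.up ℤ) 0 with hF
  have h1 : Mono ((F.shift n₁).map (mappingCone.triangleh φ).mor₁) := by
    rw [F.homologySequence_mono_shift_map_mor₁_iff _ hT n₀ n₁ h]
    apply IsZero.eq_of_src
    exact IsZero.of_iso hC
      ((HomotopyCategory.homologyFunctorFactors C (ComplexShape.up ℤ) n₀).app (mappingCone φ))
  let eK := (HomotopyCategory.homologyFunctorFactors C (ComplexShape.up ℤ) n₁).app K
  let eL := (HomotopyCategory.homologyFunctorFactors C (ComplexShape.up ℤ) n₁).app L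
  have h3 : (F.shift n₁).map (mappingCone.triangleh φ).mor₁ ≫ eL.hom =
      eK.hom ≫ HomologicalComplex.homologyMap φ n₁ :=
    (HomotopyCategory.homologyFunctorFactors C (ComplexShape.up ℤ) n₁).hom.naturality φ
  have h4 : Mono (eK.hom ≫ HomologicalComplex.homologyMap φ n₁) := by
    rw [← h3]
    exact @mono_comp _ _ _ _ _ _ h1 _ inferInstance
  have h5 : HomologicalComplex.homologyMap φ n₁ =
      eK.inv ≫ (eK.hom ≫ HomologicalComplex.homologyMap φ n₁) := by
    rw [Iso.inv_hom_id_assoc]
  rw [h5]
  exact @mono_comp _ _ _ _ _ _ inferInstance _ h4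

end Cone

section Smul
variable {A : Type u} [CommRing A]

lemma homologyMap_smul_id (K : CochainComplex (ModuleCat.{u} A) ℤ) (a : A) (i : ℤ) :
    HomologicalComplex.homologyMap (a • 𝟙 K) i = a • 𝟙 (K.homology i) := by
  have h1 : (HomologicalComplex.shortComplexFunctor (ModuleCat.{u} A) (ComplexShape.up ℤ) i).map
      (a • 𝟙 K) = a • 𝟙 (K.sc i) := by
    ext <;> rfl
  change ShortComplex.homologyMap ((HomologicalComplex.shortComplexFunctor (ModuleCat.{u} A)
    (ComplexShape.up ℤ) i).map (a • 𝟙 K)) = _
  rw [h1, ShortComplex.homologyMap_smul, ShortComplex.homologyMap_id]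
  rfl

end Smul

section Main
variable {A : Type u} [CommRing A] (a : A) (L : List A)

open Groth.Agent.Lib.Helper14.KoszulFun Groth.Agent.Lib.Helper1.KoszulConcat CohIII

/-- multiplication by `a` is injective on the Koszul cohomology of `L` in degrees `≤ 0`. -/
theorem smul_injective_homology (h1 : LCI.IsKoszulRegularSeq A (a :: L)) (i : ℤ) (hi : i ≤ 0)
    (m : ((Koszul.koszul A L).homology i : ModuleCat.{u} A)) (hm : a • m = 0) : m = 0 := by
  have hC : IsZero ((mappingCone (a • 𝟙 (Koszul.koszul A L))).homology (i - 1)) :=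
    h1 (i - 1) (by omega)
  have hmono := mono_homologyMap_of_isZero_cone (a • 𝟙 (Koszul.koszul A L)) (i - 1) i (by ring) hC
  rw [homologyMap_smul_id] at hmono
  have hinj := (ModuleCat.mono_iff_injective _).1 hmono
  apply hinj
  rw [map_zero]
  exact hm

theorem pow_smul_injective_homology (h1 : LCI.IsKoszulRegularSeq A (a :: L)) (i : ℤ) (hi : i ≤ 0)
    (k : ℕ) (m : ((Koszul.koszul A L).homology i : ModuleCat.{u} A)) (hm : a ^ k • m = 0) :
    m = 0 := by
  induction k with
  | zero => simpa using hm
  | succ k ih =>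
    apply ih
    apply smul_injective_homology a L h1 i hi
    rw [smul_smul, ← pow_succ']
    exact hm

set_option maxHeartbeats 1000000 in
theorem isZero_tensor_homology (B : Type u) [CommRing B] [Algebra A B] [Module.Flat A B]
    (i : ℤ) (h2 : IsZero ((koszulCx (ModuleCat.of B B) (L.map (algebraMap A B))).homology i)) :
    IsZero (ModuleCat.of A B ⊗ (koszulCx (ModuleCat.of A A) L).homology i) := by
  haveI : Module.Flat A (ModuleCat.of A B) := inferInstanceAs (Module.Flat A B)
  have hB1 := (isZero_homology_koszul_restrictScalars_iff (algebraMap A B) (ModuleCat.of B B) L i).2 h2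
  let e : ModuleCat.of A B ⊗ ModuleCat.of A A ≅
      (ModuleCat.restrictScalars.{u} (algebraMap A B)).obj (ModuleCat.of B B) :=
    ρ_ (ModuleCat.of A B) ≪≫ algIso B
  have hB2 : IsZero ((koszulCx (ModuleCat.of A B ⊗ ModuleCat.of A A) L).homology i) :=
    ((HomologicalComplex.homologyFunctor _ _ i).mapIso (koszulIso e L)).isZero_iff.mpr hB1
  obtain ⟨ι⟩ := nonempty_mapKoszulIso (tensorLeft (ModuleCat.of A B)) (ModuleCat.of A A)
    (forall₂_tensorLeft (ModuleCat.of A B) L)
  have hB3 : IsZero ((((tensorLeft (ModuleCat.of A B)).mapHomologicalComplex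
      (ComplexShape.up ℤ)).obj (koszulCx (ModuleCat.of A A) L)).homology i) :=
    hB2.of_iso ((HomologicalComplex.homologyFunctor _ _ i).mapIso ι)
  exact hB3.of_iso (ShortComplex.mapHomologyIso ((koszulCx (ModuleCat.of A A) L).sc i)
    (tensorLeft (ModuleCat.of A B))).symm

theorem kr_of_cons_of_localization (B : Type u) [CommRing B] [Algebra A B]
    [IsLocalization.Away a B]
    (h1 : LCI.IsKoszulRegularSeq A (a :: L))
    (h2 : LCI.IsKoszulRegularSeq B (L.map (algebraMap A B))) :
    LCI.IsKoszulRegularSeq A L := by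
  haveI : Module.Flat A B := IsLocalization.flat B (Submonoid.powers a)
  intro i hi
  rcases lt_or_gt_of_ne hi with hneg | hpos
  · have hB := (isKoszulRegularSeq_iff B _).1 h2 i hi
    have hT := isZero_tensor_homology L B i hB
    rw [← koszul_eq_koszulCx] at hT
    haveI hsub : Subsingleton
        (TensorProduct A B ((Koszul.koszul A L).homology i : ModuleCat.{u} A)) :=
      ModuleCat.subsingleton_of_isZero hT
    rw [ModuleCat.isZero_iff_subsingleton]
    refine ⟨fun m m' => ?_⟩
    suffices h : ∀ m : ((Koszul.koszul A L).homology i : ModuleCat.{u} A), m = 0 by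
      rw [h m, h m']
    intro m
    haveI : IsLocalizedModule (Submonoid.powers a)
        (TensorProduct.mk A B ((Koszul.koszul A L).homology i : ModuleCat.{u} A) 1) :=
      (isLocalizedModule_iff_isBaseChange (Submonoid.powers a) B _).2
        (TensorProduct.isBaseChange A _ B)
    have h0 : TensorProduct.mk A B ((Koszul.koszul A L).homology i : ModuleCat.{u} A) 1 m = 0 :=
      Subsingleton.elim _ _
    obtain ⟨⟨_, k, rfl⟩, hk⟩ := (IsLocalizedModule.eq_zero_iff (Submonoid.powers a) _).1 h0
    exact pow_smul_injective_homology a L h1 i hneg.le k m hk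
  · have tr : ∀ (K K' : CochainComplex (ModuleCat.{u} A) ℤ) (_ : K = K'),
        IsZero (K'.homology i) → IsZero (K.homology i) := by
      intro K K' h; subst h; exact id
    apply tr _ _ (koszul_eq_koszulCx A L)
    haveI := isStrictlyLE_koszulCx (ModuleCat.of A A) L
    exact ((CohIII.koszulCx (ModuleCat.of A A) L).exactAt_of_isLE 0 i hpos).isZero_homology

/-- `a` is a non-zero-divisor modulo `(L)`. -/
theorem mem_of_pow_mul_mem (h1 : LCI.IsKoszulRegularSeq A (a :: L)) (k : ℕ) (x : A)
    (hx : a ^ k * x ∈ Ideal.ofList L) : x ∈ Ideal.ofList L := by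
  obtain ⟨e⟩ := nonempty_h0_iso L
  rw [← koszul_eq_koszulCx] at e
  have h3 : a ^ k • e.hom.hom (Ideal.Quotient.mk (Ideal.ofList L) x) = 0 := by
    rw [← map_smul]
    have : a ^ k • (Ideal.Quotient.mk (Ideal.ofList L) x) = 0 := by
      change (Ideal.Quotient.mk (Ideal.ofList L)) (a ^ k • x) = 0
      rw [smul_eq_mul]
      exact Ideal.Quotient.eq_zero_iff_mem.2 hx
    rw [this, map_zero]
  have h4 := pow_smul_injective_homology a L h1 0 le_rfl k _ h3
  have h5 : Function.Injective e.hom.hom := by
    intro u v huv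
    have := congrArg e.inv.hom huv
    simpa using this
  have h6 : Ideal.Quotient.mk (Ideal.ofList L) x = 0 := h5 (by rw [h4, map_zero])
  exact Ideal.Quotient.eq_zero_iff_mem.1 h6

end Main

end Groth.Agent.Lib.Helper2.PerfBlow
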